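/-
Representatives of classes.
-/
import Cfsg.Agent.Lib.AltCentraliser.Classes

set_option autoImplicit false

namespace Cfsg.Agent.AltCent.Five

/-- Representatives of the classes met by the subgroups. -/
def reps : List (List (Fin 10 × Fin 10)) :=
  [[], [(0, 1), (1, 2)], [(0, 1), (2, 3)], [(0, 1), (1, 2), (3, 4), (4, 5)], [(0, 1), (1, 2), (2,
  3), (4, 5)], [(0, 1), (1, 2), (2, 3), (4, 5), (5, 6), (6, 7)], [(0, 1), (1, 2), (2, 3), (3, 4),
  (4, 5), (6, 7)], [(0, 1), (1, 2), (3, 4), (5, 6)], [(0, 1), (2, 3), (4, 5), (6, 7)]]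

end Cfsg.Agent.AltCent.Five
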