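/-
The relation on Brauer character values from a listed subgroup.
-/
import Cfsg.Agent.Lib.AltCentraliser.Five.Fact4
import Cfsg.Agent.Lib.AltCentraliser.Five.Reps

set_option autoImplicit false
set_option maxRecDepth 100000
set_option linter.style.haveILetI false

namespace Cfsg.Agent.AltCent.Five.Fact4

open Cfsg Cfsg.Agent.Blocks Cfsg.Agent.BrauerChar Cfsg.Agent.BrauerPairs

/-- The classes of the elements. -/
def cls : List (ℕ × List (Fin 10 × Fin 10)) :=
  [(0, []), (4, [(1, 4), (4, 2), (2, 5), (5, 3)]), (4, [(0, 1), (1, 4), (4, 3), (3, 2)]), (3,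
  [(0, 3), (3, 1), (1, 5), (5, 2)]), (3, [(1, 2), (2, 3), (3, 5), (5, 4)]), (2, [(0, 1), (1, 4),
  (2, 5), (5, 3)]), (2, [(0, 1), (1, 4)]), (4, [(0, 1), (1, 3)]), (4, [(0, 1), (1, 4), (4, 3),
  (3, 5)]), (4, [(0, 4), (4, 2), (2, 5), (5, 1)]), (4, [(1, 4), (4, 2)]), (4, [(0, 1), (1, 4),
  (4, 3), (2, 5)]), (4, [(0, 4), (4, 3)]), (4, [(1, 4), (4, 2), (2, 3), (3, 5)]), (4, [(0, 1),
  (1, 3), (2, 4), (4, 5)]), (1, [(0, 4), (4, 5), (5, 2), (1, 3)]), (1, [(0, 3), (3, 2), (1, 4),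
  (4, 5)]), (2, [(0, 4), (4, 1), (2, 5), (5, 3)]), (2, [(0, 4), (4, 1)]), (2, [(0, 4), (3, 5)]),
  (2, [(0, 1), (2, 4), (4, 5), (5, 3)]), (2, []), (2, [(3, 4), (4, 5)]), (1, [(2, 3), (3, 4)]),
  (3, [(2, 3), (3, 4)]), (3, [(0, 3), (3, 2), (1, 4), (4, 5)]), (4, [(0, 4), (4, 3), (3, 2), (2,
  5)]), (4, [(0, 1), (1, 3), (3, 4), (4, 5)]), (4, [(1, 2), (2, 3)]), (4, [(0, 4), (4, 2), (2,
  1), (3, 5)]), (4, [(0, 4), (4, 3), (3, 5), (5, 2)]), (4, [(1, 2), (2, 4), (4, 5), (5, 3)]), (4,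
  [(1, 2), (2, 3), (3, 4), (4, 5)]), (4, [(0, 4), (4, 2), (2, 3), (3, 1)]), (1, [(1, 2), (2,
  4)]), (2, [(1, 4), (3, 5)])]

theorem checkGroup_true : mono.checkGroup 10 tbl = true := by decide +kernel

theorem checkClasses_true : checkClasses 10 tbl mono reps cls = true := by decide +kernel

theorem card_coprime : ¬ 5 ∣ mono.sel.length := by decide +kernel

theorem counts_eq : (List.range reps.length).map (classCount mono cls) =
    ([1, 4, 9, 4, -18, 0, 0, 0, 0] : List ℤ) := by decide +kernel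

theorem relation {M : Ideal AlgInt} [M.IsPrime] (hM : IsPModular 5 M) {V : Type*}
    [AddCommGroup V] [Module (resField M) V] [FiniteDimensional (resField M) V]
    {ρ : Representation (resField M) ↥(alternatingGroup (Fin 10)) V} (hρ : NoFix ρ) :
    ∑ t ∈ Finset.range reps.length, ((([1, 4, 9, 4, -18, 0, 0, 0, 0] : List ℤ).getD t 0 : ℤ) : ℂ) *
      br 5 ρ.asAlgebraHom (mkA (reps.getD t [])) = 0 := by
  haveI := resField_charP hM
  rw [← sum_classCount hM ρ (by norm_num) htbl mono checkGroup_true card_coprime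
    (fun v hv => kill hρ hv) checkClasses_true]
  refine Finset.sum_congr rfl fun t ht => ?_
  rw [← counts_eq, List.getD_eq_getElem?_getD, List.getElem?_map,
    List.getElem?_range (Finset.mem_range.1 ht)]
  rfl

end Cfsg.Agent.AltCent.Five.Fact4
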