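/-
The relation on Brauer character values from a listed subgroup.
-/
import Cfsg.Agent.Lib.AltCentraliser.Five.Fact6
import Cfsg.Agent.Lib.AltCentraliser.Five.Reps

set_option autoImplicit false
set_option maxRecDepth 100000
set_option linter.style.haveILetI false

namespace Cfsg.Agent.AltCent.Five.Fact6

open Cfsg Cfsg.Agent.Blocks Cfsg.Agent.BrauerChar Cfsg.Agent.BrauerPairs

/-- The classes of the elements. -/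
def cls : List (ℕ × List (Fin 10 × Fin 10)) :=
  [(0, []), (6, [(0, 1), (2, 5), (5, 4), (4, 3)]), (6, [(0, 1), (2, 5), (5, 7), (7, 3), (3, 4),
  (4, 6)]), (4, [(0, 4), (4, 6), (6, 2), (2, 5)]), (3, [(1, 3), (3, 4)]), (4, [(1, 4), (4, 2),
  (2, 3), (3, 5), (5, 6), (6, 7)]), (3, [(1, 3), (3, 5), (5, 7), (4, 6)]), (6, [(0, 1), (1, 2),
  (2, 6), (6, 4), (4, 5), (3, 7)]), (6, [(2, 6), (6, 7)]), (6, [(0, 6), (6, 3), (3, 7), (7, 4)]),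
  (8, [(1, 2), (2, 4), (4, 6), (6, 5), (5, 7), (7, 3)]), (6, [(0, 6), (6, 2), (2, 1), (3, 4), (4,
  5), (5, 7)]), (8, [(1, 2), (2, 4), (4, 3), (3, 5)]), (6, [(1, 6), (2, 4), (4, 7), (3, 5)]), (6,
  [(0, 1), (1, 6), (6, 2), (2, 5), (5, 4), (4, 3)]), (2, [(0, 4), (4, 6), (6, 3), (2, 5)]), (4,
  [(0, 6), (6, 3), (3, 1), (2, 4), (4, 7), (7, 5)]), (4, [(0, 6), (6, 1), (2, 4), (4, 5)]), (7,
  [(0, 7), (7, 1), (1, 4), (4, 2), (3, 5), (5, 6)]), (4, [(1, 6), (6, 7), (7, 2), (3, 4)]), (4,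
  [(0, 1), (1, 6), (6, 5), (5, 7), (7, 3), (3, 4)]), (3, [(1, 3), (3, 4), (4, 6), (6, 5), (5, 7),
  (7, 2)]), (3, [(1, 3), (3, 5), (5, 4), (4, 2)]), (2, [(1, 4), (3, 5), (5, 6), (6, 7)]), (7,
  [(0, 4), (4, 3), (1, 7), (7, 6), (6, 2), (2, 5)]), (4, [(0, 4), (4, 5), (5, 1), (2, 6)]), (4,
  [(1, 4), (3, 6), (6, 5), (5, 7)]), (4, [(0, 4), (4, 7), (7, 5), (5, 3), (3, 1), (2, 6)]), (7,
  [(1, 4), (4, 2), (2, 7), (3, 5)]), (4, [(1, 4), (4, 3), (3, 6), (6, 7)]), (7, [(0, 3), (3, 7),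
  (7, 4), (4, 6), (6, 1), (2, 5)]), (6, [(0, 6), (6, 3), (3, 1), (1, 7), (7, 4), (4, 2)]), (6,
  [(0, 6), (6, 5), (5, 3), (3, 1), (1, 7), (7, 2)]), (6, [(0, 6), (6, 2), (2, 1), (1, 7), (7, 3),
  (4, 5)]), (6, [(0, 6), (6, 2), (2, 1), (1, 7), (7, 5), (3, 4)]), (6, [(0, 1), (1, 2), (2, 3),
  (3, 4), (4, 6), (5, 7)]), (6, [(0, 1), (1, 2), (2, 3), (4, 5)]), (6, [(0, 1), (1, 2), (2, 6),
  (6, 4), (4, 3), (5, 7)]), (6, [(0, 1), (1, 2), (2, 5), (5, 4), (4, 3), (3, 6)]), (6, [(0, 1),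
  (1, 6), (6, 4), (4, 5), (2, 7), (7, 3)]), (6, [(0, 6), (6, 5), (5, 3), (3, 7), (7, 4), (4,
  2)]), (5, [(1, 4), (4, 5), (5, 3), (2, 7)]), (5, [(0, 1), (1, 4), (4, 5), (2, 3)]), (5, [(1,
  4), (4, 5), (5, 6), (6, 3)]), (6, [(0, 6), (6, 2), (2, 3), (3, 7), (7, 1), (4, 5)]), (5, [(1,
  4), (4, 7), (7, 5), (5, 3)]), (5, [(0, 1), (1, 4), (4, 7), (7, 5), (5, 6), (2, 3)]), (6, [(0,
  1), (2, 6), (6, 4), (4, 3), (3, 7), (7, 5)]), (5, [(0, 1), (2, 4), (4, 6), (6, 7), (7, 3), (3,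
  5)]), (5, [(1, 3), (3, 7), (7, 2), (2, 4), (4, 6), (6, 5)]), (6, [(0, 1), (2, 3), (3, 6), (6,
  4), (4, 7), (7, 5)]), (6, [(1, 6), (6, 3), (3, 5), (2, 7)]), (5, [(0, 1), (1, 4), (4, 5), (5,
  2), (2, 7), (7, 3)]), (6, [(1, 3), (3, 7), (7, 4), (4, 2), (2, 6), (6, 5)]), (5, [(1, 4), (4,
  7), (7, 5), (3, 6)]), (6, [(1, 6), (2, 7), (7, 4), (3, 5)]), (6, [(0, 1), (1, 6), (6, 2), (2,
  7), (7, 5), (3, 4)]), (6, [(0, 6), (6, 7)]), (6, [(1, 3), (3, 6), (2, 4), (4, 7)]), (6, [(1,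
  3), (3, 6)]), (6, [(0, 6), (6, 7), (7, 1), (2, 3), (3, 4), (4, 5)]), (6, [(1, 3), (3, 5), (5,
  7), (7, 4), (4, 2), (2, 6)]), (5, [(0, 1), (1, 4), (4, 7), (7, 5), (2, 3), (3, 6)]), (2, [(0,
  4), (4, 1), (1, 5), (5, 6), (6, 3), (3, 2)]), (3, [(0, 6), (6, 7), (7, 5), (5, 2), (2, 3), (3,
  1)]), (3, [(0, 6), (6, 5), (5, 7), (7, 2), (1, 3), (3, 4)]), (2, [(0, 4), (4, 5), (5, 6), (6,
  7), (7, 3), (3, 1)]), (4, [(0, 6), (6, 3), (3, 2), (2, 4), (4, 7), (7, 5)]), (2, [(0, 4), (4,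
  2), (2, 5), (5, 1), (3, 6), (6, 7)]), (7, [(0, 7), (7, 2), (1, 4), (3, 5)]), (2, [(0, 4), (4,
  6), (6, 7), (7, 3), (3, 5), (5, 1)]), (7, [(0, 7), (7, 1), (1, 3), (3, 5), (5, 4), (4, 2)]),
  (2, [(0, 4), (4, 2), (2, 5), (5, 7), (7, 3), (3, 6)]), (4, [(0, 6), (6, 2), (2, 7), (7, 5)]),
  (3, [(0, 6), (6, 4), (4, 2), (1, 3), (3, 5), (5, 7)]), (3, [(0, 6), (6, 1), (2, 3), (3, 7), (7,
  4), (4, 5)]), (2, [(0, 1), (1, 4), (4, 6), (6, 3), (3, 5), (5, 2)]), (7, [(1, 4), (4, 2)]), (4,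
  [(0, 1), (1, 4), (4, 3), (3, 5), (5, 6), (6, 7)]), (5, [(0, 1), (1, 4), (4, 3), (3, 5), (5, 6),
  (6, 7)]), (3, [(1, 3), (3, 4), (4, 2), (5, 6)]), (4, [(1, 4), (4, 3), (3, 5), (5, 6), (6, 7),
  (7, 2)]), (7, [(1, 3), (3, 4), (4, 7), (7, 2)]), (3, [(0, 3), (3, 1), (2, 4), (4, 6), (6, 7),
  (7, 5)]), (7, [(0, 4), (4, 5), (5, 1), (2, 3), (3, 7), (7, 6)]), (4, [(0, 4), (4, 6), (6, 3),
  (3, 2), (2, 5), (5, 1)]), (5, [(0, 1), (1, 4), (4, 3), (3, 7)]), (3, [(1, 3), (3, 5), (5, 4),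
  (4, 6), (6, 7), (7, 2)]), (3, [(0, 3), (3, 2), (2, 4), (4, 5), (5, 6), (6, 1)]), (5, [(1, 4),
  (4, 3), (3, 6), (6, 5), (5, 7), (7, 2)]), (3, [(1, 6), (6, 4)]), (2, [(1, 2), (2, 4)]), (7,
  [(0, 3), (3, 1), (2, 5), (6, 7)]), (3, [(1, 3), (3, 6), (6, 5), (5, 4)]), (5, [(1, 4), (2, 3),
  (3, 6), (6, 7)]), (3, [(0, 3), (3, 2), (2, 6), (6, 7), (7, 5), (5, 1)]), (5, [(1, 4), (3, 7)]),
  (4, [(0, 4), (4, 5), (5, 3), (2, 6)]), (3, [(1, 3), (3, 5), (5, 7), (7, 2), (2, 6), (6, 4)]),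
  (2, [(1, 2), (2, 4), (3, 5), (5, 6)]), (7, [(1, 4), (2, 7), (3, 5), (5, 6)]), (7, [(0, 3), (3,
  2), (2, 5), (5, 7), (7, 6), (6, 1)]), (5, [(0, 1), (1, 4), (4, 2), (2, 3), (3, 7), (5, 6)]),
  (5, [(1, 4), (3, 6), (6, 5), (5, 7)]), (4, [(1, 6), (6, 5), (5, 4), (4, 2), (2, 3), (3, 7)]),
  (3, [(0, 3), (1, 6), (2, 5), (4, 7)]), (2, [(0, 1), (1, 4), (4, 6), (6, 7), (2, 5), (5, 3)]),
  (7, [(0, 3), (1, 7), (7, 4), (4, 6), (6, 2), (2, 5)]), (3, [(0, 3), (3, 1), (2, 6), (6, 7), (7,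
  4), (4, 5)]), (5, [(0, 1), (1, 4), (2, 3), (3, 5), (5, 6), (6, 7)]), (5, [(1, 4), (4, 3), (3,
  5), (5, 7)]), (3, [(0, 3), (3, 6), (6, 2), (2, 5), (5, 1), (4, 7)]), (5, [(0, 1), (1, 4), (4,
  3), (3, 6), (6, 7), (7, 2)]), (3, [(1, 3), (3, 7), (2, 6), (6, 4)]), (7, [(1, 3), (3, 5), (5,
  6), (6, 4), (4, 2), (2, 7)]), (5, [(0, 1), (1, 4), (2, 3), (3, 6), (6, 5), (5, 7)]), (6, [(0,
  6), (1, 7), (7, 5), (5, 4), (4, 3), (3, 2)]), (6, [(0, 6), (6, 1), (1, 7), (7, 4), (4, 2), (3,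
  5)]), (5, [(0, 1), (1, 2), (2, 3), (6, 7)]), (5, [(5, 7), (7, 6)]), (6, []), (6, [(0, 1), (1,
  2), (2, 3), (3, 4), (4, 5), (5, 6)]), (6, [(0, 1), (1, 2), (2, 3), (4, 6), (6, 7), (7, 5)]),
  (6, [(0, 1), (1, 2), (2, 3), (3, 6), (4, 7), (7, 5)]), (6, [(3, 6), (6, 5)]), (6, [(3, 5), (5,
  7), (7, 4), (4, 6)]), (6, [(2, 4), (3, 5)]), (5, [(2, 4), (6, 7)]), (5, [(0, 1), (1, 2), (2,
  4), (4, 3), (3, 7), (7, 6)]), (6, [(2, 6), (6, 5), (5, 7), (7, 4)]), (5, [(0, 1), (1, 2), (2,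
  4), (4, 3), (5, 7), (7, 6)]), (6, [(2, 6), (6, 7), (7, 4), (3, 5)]), (6, [(2, 4), (5, 6)]), (5,
  [(2, 4), (3, 7), (7, 6), (6, 5)]), (5, [(2, 4), (4, 6), (6, 7), (3, 5)]), (6, [(2, 6), (6, 3),
  (3, 5), (5, 7)]), (5, [(0, 1), (1, 2), (2, 4), (4, 6), (6, 7), (7, 3)]), (5, [(0, 1), (1, 2),
  (2, 4), (4, 6), (6, 5), (3, 7)]), (5, [(0, 1), (2, 4), (4, 3), (6, 7)]), (6, [(0, 1), (2, 6),
  (6, 4), (4, 5), (5, 7), (7, 3)]), (6, [(0, 1), (2, 3), (4, 5), (5, 6)]), (5, [(0, 1), (2, 4),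
  (4, 6), (6, 5), (5, 7), (7, 3)]), (6, [(1, 6), (6, 3), (2, 7), (7, 4)]), (5, [(0, 1), (1, 4),
  (4, 3), (3, 2), (2, 5), (5, 6)]), (6, [(1, 3), (2, 4), (4, 6), (6, 7)]), (5, [(1, 4), (4, 2),
  (2, 5), (5, 3)]), (5, [(0, 1), (1, 4), (4, 7), (7, 3), (3, 2), (2, 5)]), (6, [(1, 3), (2, 6),
  (6, 5), (5, 7)]), (6, [(0, 6), (6, 4), (4, 1), (2, 3), (3, 7), (7, 5)]), (6, [(0, 1), (1, 6),
  (2, 5), (5, 4), (4, 7), (7, 3)]), (6, [(0, 1), (1, 4), (4, 5), (2, 6), (6, 7), (7, 3)]), (6,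
  [(0, 1), (1, 4), (4, 6), (6, 7), (7, 5), (2, 3)]), (5, [(1, 4), (4, 2), (2, 7), (7, 5), (5, 6),
  (6, 3)]), (6, [(0, 1), (1, 6), (6, 4), (4, 3), (3, 2), (2, 5)]), (6, [(0, 6), (6, 5), (5, 3),
  (3, 7), (7, 2), (2, 4)]), (6, [(1, 3), (2, 6), (6, 7), (7, 4)]), (5, [(1, 3), (3, 5), (2, 4),
  (6, 7)]), (6, [(1, 5), (3, 6)]), (6, [(0, 1), (1, 6), (6, 4), (4, 3), (2, 7), (7, 5)]), (5,
  [(0, 1), (1, 4), (4, 7), (7, 3), (3, 6), (2, 5)]), (6, [(0, 6), (6, 4), (4, 3), (3, 2), (2, 1),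
  (5, 7)]), (5, [(1, 4), (4, 2), (2, 5), (3, 6)]), (5, [(1, 4), (4, 7), (7, 2), (2, 5)]), (6,
  [(1, 3), (3, 5)]), (6, [(0, 1), (1, 6), (6, 4), (4, 7), (7, 3), (2, 5)]), (6, [(1, 6), (6, 5),
  (2, 4), (4, 7)]), (6, [(0, 6), (6, 5), (5, 7), (2, 4)]), (5, [(0, 1), (1, 4), (4, 5), (5, 2),
  (2, 3), (3, 6)]), (5, [(1, 4), (4, 2), (2, 7), (7, 5)]), (6, [(1, 3), (3, 5), (4, 6), (6, 7)]),
  (5, [(0, 1), (1, 4), (4, 3), (3, 6), (2, 7), (7, 5)]), (6, [(1, 3), (3, 6), (6, 5), (4, 7)]),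
  (5, [(0, 1), (1, 4), (4, 7), (7, 5), (5, 2), (2, 3)]), (6, [(1, 6), (6, 3), (3, 5), (2, 4)]),
  (6, [(0, 6), (6, 3), (3, 5), (5, 7), (7, 2), (2, 4)]), (6, [(0, 1), (1, 4), (4, 3), (2, 6), (6,
  7), (7, 5)]), (6, [(0, 1), (1, 6), (6, 4), (4, 5), (5, 2), (2, 3)]), (6, [(0, 6), (6, 4), (4,
  5), (5, 7), (7, 1), (2, 3)]), (6, [(1, 5), (5, 6)]), (6, [(1, 5), (5, 7), (7, 4), (4, 6)]), (5,
  [(1, 3), (3, 7), (7, 6), (2, 4)]), (6, [(0, 1), (2, 3), (3, 6), (4, 5)]), (6, [(1, 3), (3, 5),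
  (5, 7), (7, 2), (2, 4), (4, 6)]), (6, [(0, 6), (6, 7), (7, 3), (3, 2), (2, 1), (4, 5)]), (5,
  [(0, 1), (1, 4), (4, 3), (3, 6), (6, 2), (2, 5)]), (6, [(0, 6), (6, 7), (7, 5), (5, 2), (2, 1),
  (3, 4)]), (5, [(0, 1), (1, 4), (4, 5), (2, 7), (7, 3), (3, 6)]), (6, [(1, 3), (3, 7), (7, 2),
  (2, 6)]), (6, [(1, 6), (4, 7)]), (6, [(0, 6), (6, 7), (7, 5), (5, 4), (4, 1), (2, 3)]), (5,
  [(1, 4), (4, 5), (5, 3), (3, 6)]), (6, [(0, 6), (6, 7), (7, 2), (3, 5)]), (6, [(0, 1), (1, 4),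
  (4, 7), (7, 5), (2, 3), (3, 6)]), (5, [(1, 4), (4, 7), (7, 5), (5, 6)]), (6, [(0, 1), (1, 4),
  (4, 3), (3, 7), (7, 5), (2, 6)]), (6, [(1, 6), (2, 4)]), (2, [(0, 4), (1, 5), (5, 2), (2, 6),
  (6, 3), (3, 7)]), (1, [(0, 4), (4, 6), (6, 2), (2, 5), (5, 1), (1, 3)]), (2, [(0, 4), (4, 2),
  (2, 6), (6, 7), (7, 3), (1, 5)]), (1, [(0, 3), (1, 4), (4, 6), (2, 5)]), (2, [(0, 4), (4, 2),
  (2, 6), (1, 5), (5, 7), (7, 3)]), (2, [(0, 4), (1, 5), (5, 2), (3, 6)]), (1, [(0, 3), (3, 5),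
  (5, 6), (6, 7), (7, 2), (1, 4)]), (2, [(0, 4), (1, 5), (5, 3), (3, 2)]), (3, [(0, 6), (6, 5),
  (5, 4), (4, 1), (1, 7), (7, 2)]), (3, [(0, 6), (6, 1), (1, 7), (7, 5), (5, 2), (2, 3)]), (1,
  [(0, 4), (4, 2), (1, 3), (3, 5), (5, 6), (6, 7)]), (2, [(0, 4), (4, 6), (6, 3), (3, 2), (1, 5),
  (5, 7)]), (4, [(0, 6), (2, 7), (7, 5), (5, 3)]), (4, [(0, 6), (2, 4), (4, 5), (5, 3)]), (4,
  [(0, 6), (6, 2), (2, 4), (4, 5), (5, 3), (3, 1)]), (7, [(0, 7), (7, 1), (1, 4), (4, 2)]), (4,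
  [(0, 6), (6, 3), (2, 7), (7, 5)]), (1, [(0, 4), (4, 6), (6, 2), (2, 3), (3, 5), (5, 1)]), (2,
  [(0, 4), (4, 6), (6, 3), (3, 2), (2, 5), (5, 1)]), (3, [(0, 6), (6, 7), (7, 2), (1, 3), (3, 5),
  (5, 4)]), (2, [(0, 4), (4, 3), (3, 5), (5, 1)]), (4, [(0, 6), (6, 3), (3, 2), (2, 4), (4, 5),
  (5, 1)]), (3, [(0, 6), (6, 7), (7, 4), (4, 5), (5, 1), (2, 3)]), (4, [(0, 6), (6, 2), (2, 4),
  (4, 7), (7, 5), (5, 1)]), (3, [(0, 6), (6, 5), (5, 4), (4, 2), (1, 3), (3, 7)]), (4, [(0, 6),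
  (2, 4), (4, 7), (7, 5)]), (1, [(0, 3), (3, 5), (5, 2), (2, 4), (4, 6), (6, 1)]), (2, [(0, 4),
  (4, 6), (2, 5), (5, 3)]), (7, [(0, 7), (7, 2), (1, 3), (3, 5), (5, 6), (6, 4)]), (4, [(0, 6),
  (6, 2), (2, 4), (4, 7), (7, 5), (5, 3)]), (2, [(0, 1), (1, 4), (4, 2), (3, 5), (5, 6), (6,
  7)]), (7, [(0, 3), (1, 7), (7, 6), (6, 2), (2, 4), (4, 5)]), (4, [(0, 1), (1, 6), (6, 5), (5,
  4), (4, 3), (3, 7)]), (3, [(1, 6), (6, 5), (5, 4), (4, 2)]), (4, [(0, 1), (1, 6), (6, 7), (3,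
  4)]), (4, [(1, 6), (6, 5), (5, 7), (7, 3), (3, 4), (4, 2)]), (4, [(1, 6), (6, 5), (5, 4), (4,
  3), (3, 7), (7, 2)]), (3, [(0, 3), (1, 6), (6, 2), (2, 4), (4, 7), (7, 5)]), (8, [(0, 1), (1,
  2), (5, 6), (6, 7)]), (7, [(0, 4), (4, 5), (5, 2), (2, 3), (3, 1), (6, 7)]), (5, [(1, 4), (4,
  3), (3, 5), (5, 6), (6, 7), (7, 2)]), (5, [(0, 1), (1, 4), (3, 5), (5, 7)]), (2, [(0, 1), (1,
  2), (3, 4), (4, 5)]), (3, [(0, 3), (3, 6), (6, 2), (2, 4), (4, 5), (5, 1)]), (4, [(1, 4), (4,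
  2), (3, 6), (6, 7)]), (5, [(1, 4), (4, 3), (3, 7), (7, 2)]), (4, [(0, 1), (1, 4), (3, 6), (6,
  7)]), (3, [(1, 3), (3, 6), (6, 5), (5, 4), (4, 7), (7, 2)]), (7, [(1, 4), (4, 7), (7, 2), (3,
  5)]), (7, [(0, 4), (4, 5), (5, 7), (7, 6), (6, 1), (2, 3)]), (2, [(1, 2), (3, 4), (4, 5), (5,
  6)]), (7, [(0, 3), (3, 7), (7, 6), (6, 1), (2, 4), (4, 5)]), (3, [(1, 3), (3, 6), (6, 4), (4,
  2)]), (4, [(0, 1), (1, 4), (4, 3), (3, 6), (6, 5), (5, 7)]), (7, [(1, 4), (4, 2), (3, 5), (5,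
  6)]), (5, [(0, 1), (1, 4), (3, 7), (5, 6)]), (4, [(1, 4), (4, 3), (3, 6), (6, 5), (5, 7), (7,
  2)]), (3, [(0, 3), (3, 6), (6, 1), (2, 4), (4, 7), (7, 5)]), (4, [(0, 1), (1, 6), (6, 7), (7,
  3), (3, 4), (4, 2)]), (4, [(1, 6), (6, 5), (5, 7), (7, 2), (2, 3), (3, 4)]), (1, [(1, 3), (3,
  5), (5, 6), (6, 7), (7, 2), (2, 4)]), (2, [(0, 1), (1, 4), (2, 5), (5, 3)]), (3, [(1, 6), (6,
  5), (5, 4), (2, 7)]), (3, [(0, 3), (1, 6), (2, 7), (7, 5)]), (4, [(1, 6), (6, 7), (7, 3), (3,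
  4)]), (7, [(0, 3), (1, 7), (7, 6), (2, 5)]), (4, [(0, 1), (1, 4), (4, 2), (3, 5), (5, 6), (6,
  7)]), (3, [(0, 3), (3, 1), (2, 5), (5, 6)]), (5, [(1, 4), (2, 3), (3, 5), (5, 7)]), (4, [(0,
  4), (4, 5), (5, 2), (2, 6), (6, 3), (3, 1)]), (4, [(0, 4), (4, 5), (2, 6), (6, 3)]), (3, [(0,
  3), (3, 1), (2, 6), (5, 7)]), (8, [(1, 2), (2, 4), (5, 6), (6, 7)]), (7, [(0, 4), (4, 3), (3,
  1), (2, 5), (5, 7), (7, 6)]), (5, [(0, 1), (1, 4), (4, 2), (2, 3), (3, 5), (5, 7)]), (7, [(1,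
  4), (3, 5)]), (4, [(0, 4), (4, 5), (5, 2), (2, 6)]), (7, [(1, 3), (3, 5), (5, 4), (2, 7)]), (7,
  [(0, 4), (4, 3), (3, 2), (2, 5), (5, 1), (6, 7)]), (4, [(0, 1), (1, 4), (4, 2), (2, 3), (3, 6),
  (6, 7)]), (8, [(0, 1), (1, 2), (2, 4), (3, 6), (6, 7), (7, 5)]), (5, [(0, 1), (1, 4), (4, 2),
  (2, 3), (3, 6), (6, 7)]), (5, [(1, 4), (2, 3), (3, 7), (5, 6)]), (5, [(0, 1), (1, 4), (4, 2),
  (3, 6), (6, 5), (5, 7)]), (7, [(0, 4), (4, 3), (3, 7), (7, 6), (6, 1), (2, 5)]), (8, [(1, 2),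
  (2, 4), (3, 6), (5, 7)]), (1, [(1, 4), (4, 2), (2, 3), (3, 5), (5, 6), (6, 7)]), (2, [(1, 4),
  (4, 7), (2, 5), (3, 6)]), (2, [(1, 4), (4, 6), (6, 3), (3, 2), (2, 5), (5, 7)]), (2, [(0, 1),
  (1, 4), (4, 3), (3, 5), (5, 6), (6, 7)]), (4, [(1, 6), (6, 5), (5, 7), (3, 4)]), (7, [(0, 4),
  (4, 6), (6, 1), (1, 7), (7, 3), (2, 5)]), (5, [(1, 4), (4, 2), (2, 3), (3, 5), (5, 6), (6,
  7)]), (7, [(1, 3), (3, 4), (4, 2), (2, 7)]), (3, [(1, 3), (3, 4), (4, 2), (2, 6), (6, 5), (5,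
  7)]), (8, [(0, 1), (1, 2), (2, 4), (4, 5), (5, 6), (6, 7)]), (7, [(0, 3), (3, 1), (2, 5), (5,
  7), (7, 4), (4, 6)]), (5, [(1, 4), (4, 2), (2, 3), (3, 7)]), (3, [(0, 3), (3, 2), (2, 5), (5,
  1), (4, 6), (6, 7)]), (4, [(0, 4), (4, 7), (7, 5), (5, 2), (2, 6), (6, 3)]), (3, [(0, 3), (3,
  7), (7, 4), (4, 5), (5, 1), (2, 6)]), (4, [(0, 4), (4, 7), (7, 5), (5, 1), (2, 6), (6, 3)]),
  (7, [(0, 3), (3, 2), (2, 5), (5, 1), (4, 6), (6, 7)]), (7, [(0, 4), (4, 6), (6, 2), (2, 5), (5,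
  1), (3, 7)]), (5, [(1, 4), (4, 3), (3, 6), (6, 7)]), (7, [(1, 4), (4, 7), (3, 5), (5, 6)]), (4,
  [(0, 4), (4, 7), (7, 5), (5, 2), (2, 6), (6, 1)]), (2, [(1, 2), (2, 4), (4, 6), (6, 3), (3, 5),
  (5, 7)]), (5, [(1, 4), (4, 3), (3, 7), (5, 6)]), (4, [(0, 1), (1, 4), (2, 3), (3, 6), (6, 5),
  (5, 7)]), (8, [(0, 1), (5, 6)]), (6, [(0, 6), (6, 3), (3, 5), (5, 1), (1, 7), (7, 2)]), (6,
  [(0, 6), (6, 4), (4, 3), (1, 7), (7, 5), (5, 2)]), (8, [(3, 4), (4, 5)]), (6, [(0, 6), (1, 7),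
  (7, 3), (3, 4), (4, 5), (5, 2)]), (6, [(0, 6), (6, 5), (5, 1), (1, 7), (7, 4), (4, 2)]), (8,
  [(3, 4), (4, 6), (6, 7), (7, 5)]), (8, [(0, 1), (3, 4), (4, 5), (5, 6)]), (6, [(4, 6), (6,
  7)]), (5, [(3, 4), (4, 5)]), (6, [(3, 5), (5, 6)]), (6, [(3, 6), (4, 7)]), (5, [(0, 1), (1, 2),
  (2, 3), (3, 4), (4, 5), (5, 6)]), (6, [(0, 1), (1, 2), (2, 3), (3, 6), (6, 4), (4, 5)]), (6,
  [(0, 1), (1, 2), (2, 5), (5, 6), (6, 4), (4, 3)]), (6, [(0, 1), (1, 2), (2, 6), (3, 7), (7, 5),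
  (5, 4)]), (6, [(2, 6), (6, 3), (3, 7), (7, 4)]), (5, [(0, 1), (1, 2), (2, 4), (4, 3), (3, 5),
  (6, 7)]), (6, [(0, 1), (1, 2), (2, 5), (3, 4)]), (6, [(0, 1), (1, 2), (2, 6), (6, 7), (7, 5),
  (3, 4)]), (6, [(2, 4), (4, 6), (6, 7), (3, 5)]), (6, [(2, 6), (6, 5), (5, 3), (3, 7)]), (5,
  [(0, 1), (1, 2), (2, 4), (4, 6), (3, 5), (5, 7)]), (5, [(2, 4), (4, 6), (6, 3), (3, 7)]), (6,
  [(0, 1), (1, 2), (2, 5), (3, 4), (4, 6), (6, 7)]), (6, [(0, 1), (1, 2), (2, 5), (3, 6), (6, 4),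
  (4, 7)]), (6, [(0, 1), (1, 2), (2, 6), (3, 4), (4, 5), (5, 7)]), (6, [(0, 1), (1, 2), (2, 6),
  (6, 7), (7, 3), (4, 5)]), (6, [(2, 4), (4, 6), (6, 5), (5, 7)]), (6, [(2, 4), (4, 7), (3, 6),
  (6, 5)]), (5, [(1, 3), (6, 7)]), (5, [(0, 1), (2, 3), (5, 7), (7, 6)]), (6, [(1, 5), (5, 6),
  (6, 3), (2, 4)]), (6, [(1, 5), (5, 7), (7, 2), (2, 4), (4, 6), (6, 3)]), (6, [(0, 1), (2, 5),
  (5, 4), (4, 6), (6, 7), (7, 3)]), (6, [(1, 5), (5, 3)]), (6, [(1, 5), (5, 3), (4, 6), (6, 7)]),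
  (6, [(1, 5), (5, 7), (7, 4), (4, 2), (2, 6), (6, 3)]), (5, [(1, 3), (2, 4), (4, 6), (6, 7)]),
  (5, [(1, 3), (2, 4), (5, 7), (7, 6)]), (8, [(0, 1), (1, 2), (2, 3), (5, 6)]), (6, [(0, 1), (1,
  6), (2, 7), (7, 5), (5, 4), (4, 3)]), (6, [(1, 6), (6, 5), (5, 3), (2, 7)]), (6, [(0, 6), (6,
  4), (4, 5), (5, 2), (2, 1), (3, 7)]), (6, [(0, 6), (6, 5), (5, 3), (3, 7)]), (6, [(1, 3), (2,
  4)]), (5, [(1, 4), (4, 7), (7, 2), (2, 5), (5, 6), (6, 3)]), (6, [(0, 6), (6, 2), (2, 1), (3,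
  7), (7, 5), (5, 4)]), (6, [(0, 1), (1, 4), (4, 3), (3, 2), (2, 5), (5, 6)]), (6, [(0, 1), (1,
  4), (4, 6), (2, 5), (5, 7), (7, 3)]), (6, [(1, 3), (5, 6)]), (5, [(0, 1), (1, 4), (4, 5), (5,
  6), (2, 7), (7, 3)]), (8, [(0, 1), (1, 2), (2, 4), (4, 3)]), (6, [(1, 6), (6, 5), (5, 3), (4,
  7)]), (6, [(1, 6), (6, 3), (2, 4), (4, 7)]), (8, [(1, 2), (2, 4), (4, 3), (5, 6)]), (6, [(0,
  6), (6, 3), (3, 7), (7, 2)]), (6, [(1, 3), (4, 6), (6, 5), (5, 7)]), (5, [(0, 1), (1, 4), (4,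
  3), (3, 2), (2, 7), (7, 5)]), (8, [(0, 1), (1, 2), (2, 4), (4, 6), (6, 7), (7, 3)]), (6, [(0,
  1), (1, 6), (2, 3), (4, 5)]), (6, [(1, 6), (6, 5), (5, 3), (2, 4)]), (6, [(1, 5), (2, 4)]), (6,
  [(1, 5), (2, 4), (4, 6), (6, 7)]), (6, [(1, 5), (2, 4), (4, 7), (3, 6)]), (5, [(0, 1), (2, 3),
  (3, 4), (4, 5)]), (5, [(1, 3), (3, 4), (4, 7), (7, 5)]), (6, [(0, 1), (2, 5), (3, 6), (6, 4)]),
  (6, [(0, 1), (2, 3), (3, 4), (4, 5)]), (6, [(0, 1), (2, 3), (3, 4), (4, 6), (6, 7), (7, 5)]),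
  (5, [(0, 1), (2, 4), (4, 3), (3, 7), (7, 6), (6, 5)]), (6, [(1, 5), (2, 6), (6, 7), (7, 4)]),
  (6, [(0, 1), (1, 6), (2, 7), (7, 3), (3, 4), (4, 5)]), (6, [(1, 6), (6, 5), (2, 7), (7, 4)]),
  (8, [(1, 2), (2, 3), (3, 4), (4, 6), (6, 7), (7, 5)]), (6, [(0, 1), (1, 4), (4, 6), (6, 7), (7,
  3), (2, 5)]), (6, [(0, 6), (6, 5), (5, 7), (7, 4)]), (5, [(0, 1), (1, 4), (4, 3), (2, 5)]), (6,
  [(1, 3), (3, 6), (6, 5), (2, 4)]), (6, [(0, 6), (6, 3), (3, 5), (5, 7)]), (5, [(1, 4), (4, 5),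
  (2, 7), (3, 6)]), (6, [(0, 6), (6, 4), (4, 1), (2, 5), (5, 7), (7, 3)]), (6, [(0, 1), (1, 4),
  (4, 5), (5, 2), (2, 3), (3, 6)]), (5, [(1, 4), (4, 5)]), (6, [(0, 1), (1, 6), (2, 3), (3, 4),
  (4, 7), (7, 5)]), (6, [(0, 6), (6, 2), (2, 3), (3, 4), (4, 1), (5, 7)]), (6, [(1, 3), (3, 5),
  (2, 6), (6, 7)]), (8, [(0, 1), (1, 2), (2, 4), (4, 3), (3, 6), (6, 5)]), (8, [(1, 2), (2, 4),
  (4, 6), (6, 7), (7, 3), (3, 5)]), (6, [(1, 6), (6, 5)]), (6, [(0, 1), (1, 6), (2, 5), (3, 4)]),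
  (8, [(1, 2), (2, 4), (4, 7), (7, 3), (3, 6), (6, 5)]), (6, [(0, 1), (2, 5), (5, 6), (3, 4)]),
  (6, [(0, 1), (2, 5), (5, 4), (4, 7), (7, 3), (3, 6)]), (5, [(1, 3), (3, 4), (4, 5), (5, 6)]),
  (5, [(0, 1), (2, 3), (3, 4), (4, 7), (7, 5), (5, 6)]), (6, [(1, 5), (5, 3), (3, 6), (2, 4)]),
  (6, [(0, 1), (2, 6), (3, 7), (4, 5)]), (5, [(0, 1), (2, 4), (4, 6), (3, 7)]), (6, [(1, 5), (5,
  7), (7, 2), (2, 6)]), (6, [(1, 5), (5, 3), (3, 6), (4, 7)]), (6, [(0, 1), (2, 6), (3, 4), (5,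
  7)]), (8, [(0, 1), (1, 2), (2, 3), (3, 4), (4, 5), (5, 6)]), (8, [(0, 1), (1, 2), (2, 3), (3,
  4), (4, 6), (5, 7)]), (6, [(1, 3), (3, 5), (5, 6), (2, 4)]), (5, [(0, 1), (1, 4), (4, 7), (7,
  3), (2, 5), (5, 6)]), (6, [(0, 6), (6, 7), (7, 4), (3, 5)]), (6, [(0, 1), (1, 4), (4, 3), (3,
  6), (6, 2), (2, 5)]), (6, [(0, 1), (1, 4), (4, 5), (5, 6), (6, 2), (2, 3)]), (6, [(0, 6), (6,
  7), (7, 3), (3, 4), (4, 1), (2, 5)]), (6, [(0, 6), (6, 7), (7, 4), (4, 2)]), (5, [(0, 1), (1,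
  4), (4, 5), (5, 6), (6, 2), (2, 3)]), (8, [(0, 1), (1, 2), (2, 4), (4, 3), (3, 5), (5, 6)]),
  (6, [(0, 6), (6, 7), (2, 4), (3, 5)]), (6, [(0, 1), (1, 6), (6, 2), (2, 3), (4, 7), (7, 5)]),
  (6, [(0, 1), (1, 4), (4, 5), (5, 7), (7, 3), (2, 6)]), (6, [(0, 1), (1, 6), (6, 2), (2, 5), (3,
  4), (4, 7)]), (8, [(1, 2), (2, 4), (4, 3), (3, 6)]), (6, [(0, 1), (1, 4), (4, 6), (6, 2), (2,
  3), (5, 7)]), (5, [(1, 4), (4, 2), (2, 7), (7, 5), (5, 3), (3, 6)]), (6, [(0, 6), (6, 7), (7,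
  1), (2, 5), (5, 4), (4, 3)]), (8, [(0, 1), (1, 2), (2, 4), (4, 6), (3, 5), (5, 7)]), (6, [(1,
  6), (3, 5)]), (8, [(0, 1), (1, 2), (2, 4), (4, 7), (7, 3), (3, 6)]), (2, [(0, 4), (4, 7), (7,
  1), (1, 5), (5, 2), (3, 6)]), (3, [(0, 6), (6, 2), (2, 3), (1, 7), (7, 4), (4, 5)]), (2, [(0,
  4), (4, 6), (6, 7), (1, 5), (5, 3), (3, 2)]), (3, [(0, 6), (6, 4), (4, 2), (1, 7)]), (2, [(0,
  4), (4, 2), (2, 5), (5, 6), (6, 7), (7, 3)]), (1, [(0, 3), (3, 1), (2, 4), (4, 5)]), (1, [(0,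
  4), (4, 5), (5, 6), (6, 2), (2, 3), (3, 1)]), (4, [(0, 6), (6, 2), (2, 7), (7, 5), (5, 3), (3,
  1)]), (2, [(0, 4), (4, 3)]), (7, [(0, 7), (7, 2), (1, 3), (3, 4)]), (3, [(0, 6), (6, 7), (7,
  1), (1, 3), (3, 4), (4, 2)]), (3, [(0, 6), (6, 2), (2, 3), (3, 1), (4, 5), (5, 7)]), (1, [(0,
  4), (4, 5), (5, 1), (2, 3)]), (4, [(0, 6), (6, 3), (3, 2), (2, 7), (7, 5), (5, 1)]), (4, [(0,
  6), (6, 3), (2, 4), (4, 5)]), (3, [(0, 6), (6, 2), (2, 3), (3, 7), (7, 5), (5, 1)]), (1, [(0,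
  3), (3, 2), (2, 4), (4, 5), (5, 6), (6, 1)]), (4, [(0, 6), (6, 1), (2, 7), (7, 5)]), (3, [(0,
  6), (6, 1), (2, 3), (5, 7)]), (2, [(0, 4), (4, 3), (3, 5), (5, 6)]), (3, [(0, 6), (6, 4), (4,
  1), (1, 3), (3, 7), (7, 2)]), (4, [(0, 6), (6, 2), (2, 4), (4, 5)]), (2, [(0, 4), (4, 6), (3,
  5), (5, 7)]), (4, [(0, 6), (6, 1), (2, 4), (4, 7), (7, 5), (5, 3)]), (2, [(1, 4), (4, 5), (5,
  3), (3, 2)]), (2, [(0, 1), (1, 4), (4, 5), (5, 6), (6, 3), (3, 2)]), (7, [(0, 4), (4, 5), (5,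
  2), (2, 3), (1, 7), (7, 6)]), (1, [(1, 4), (4, 2)]), (3, [(0, 3), (1, 6), (2, 4), (4, 5)]), (1,
  [(1, 3), (3, 4), (4, 5), (5, 6), (6, 7), (7, 2)]), (3, [(1, 6), (6, 4), (4, 7), (7, 2)]), (2,
  [(0, 1), (1, 2)]), (4, [(0, 4), (4, 6), (2, 5), (5, 3)]), (4, [(0, 4), (4, 6), (6, 2), (2, 5),
  (5, 3), (3, 1)]), (7, [(0, 3), (3, 1), (2, 4), (4, 5), (5, 7), (7, 6)]), (3, [(0, 3), (3, 1),
  (2, 4), (4, 5)]), (5, [(1, 4), (4, 2), (3, 5), (5, 7)]), (4, [(0, 4), (4, 6), (6, 3), (2, 5)]),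
  (7, [(0, 3), (3, 2), (2, 4), (4, 5), (5, 1), (6, 7)]), (8, [(1, 2), (3, 4), (4, 6), (6, 5)]),
  (7, [(1, 3), (3, 5), (5, 4), (4, 2)]), (5, [(1, 4), (4, 2), (3, 6), (6, 7)]), (5, [(0, 1), (1,
  4), (3, 6), (6, 7)]), (4, [(0, 4), (4, 6), (6, 1), (2, 5)]), (8, [(0, 1), (1, 2), (3, 4), (4,
  6)]), (5, [(1, 4), (4, 2), (3, 7), (5, 6)]), (5, [(0, 1), (1, 4), (4, 3), (3, 6), (6, 5), (5,
  7)]), (3, [(0, 3), (3, 2), (2, 4), (4, 6), (6, 1), (5, 7)]), (7, [(1, 3), (3, 5), (5, 6), (6,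
  4), (4, 7), (7, 2)]), (1, [(1, 3), (3, 4)]), (4, [(0, 1), (1, 6), (6, 5), (5, 4), (4, 2), (3,
  7)]), (3, [(0, 3), (1, 6), (6, 2), (2, 5)]), (2, [(0, 1), (1, 4), (2, 5), (3, 6)]), (2, [(1,
  4), (2, 5), (5, 6), (6, 3)]), (4, [(1, 6), (6, 5), (5, 4), (3, 7)]), (4, [(0, 1), (1, 6), (6,
  5), (5, 7), (2, 3), (3, 4)]), (7, [(1, 3), (3, 4)]), (5, [(0, 1), (1, 4), (4, 2), (3, 5), (5,
  6), (6, 7)]), (7, [(1, 4), (2, 7)]), (3, [(1, 3), (3, 4), (2, 6), (6, 7)]), (4, [(1, 4), (3,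
  5), (5, 6), (6, 7)]), (5, [(1, 4), (3, 5), (5, 6), (6, 7)]), (3, [(0, 3), (3, 2), (2, 5), (5,
  1)]), (5, [(0, 1), (1, 4), (4, 2), (3, 7)]), (4, [(1, 4), (2, 3), (3, 6), (6, 7)]), (2, [(0,
  1), (1, 2), (2, 4), (3, 5)]), (3, [(1, 3), (3, 7), (7, 2), (2, 6), (6, 5), (5, 4)]), (7, [(0,
  3), (3, 7), (7, 6), (6, 2), (2, 5), (5, 1)]), (3, [(1, 3), (3, 5), (5, 6), (6, 4)]), (3, [(0,
  3), (3, 6), (6, 1), (2, 5)]), (4, [(0, 1), (1, 4), (4, 2), (3, 6), (6, 5), (5, 7)]), (7, [(1,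
  3), (3, 5), (5, 6), (6, 4)]), (3, [(0, 3), (3, 7), (7, 5), (5, 2), (2, 6), (6, 1)]), (4, [(0,
  4), (4, 5), (5, 3), (3, 2), (2, 6), (6, 1)]), (1, [(1, 4), (4, 5), (5, 6), (6, 7)]), (4, [(1,
  6), (6, 7), (2, 3), (3, 4)]), (3, [(1, 6), (6, 5), (5, 4), (4, 7)]), (4, [(0, 1), (1, 6), (6,
  5), (5, 7), (7, 2), (3, 4)]), (3, [(0, 3), (1, 6), (6, 2), (2, 7), (7, 4), (4, 5)]), (3, [(1,
  6), (6, 4), (4, 2), (2, 7)]), (4, [(0, 1), (1, 6), (6, 5), (5, 4), (2, 3), (3, 7)]), (4, [(0,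
  1), (1, 6), (6, 7), (7, 2), (2, 3), (3, 4)]), (7, [(1, 4), (4, 7)]), (3, [(1, 3), (3, 4), (4,
  6), (6, 7)]), (5, [(0, 1), (1, 4), (4, 3), (3, 5), (5, 7), (7, 2)]), (3, [(0, 3), (3, 1), (2,
  5), (5, 7), (7, 4), (4, 6)]), (2, [(0, 1), (1, 2), (2, 4), (4, 5), (5, 6), (6, 7)]), (4, [(0,
  4), (4, 7), (7, 5), (5, 3), (3, 2), (2, 6)]), (4, [(0, 1), (1, 4), (2, 3), (3, 5), (5, 6), (6,
  7)]), (7, [(0, 4), (4, 6), (6, 7), (7, 3), (3, 1), (2, 5)]), (4, [(0, 1), (1, 4), (4, 3), (3,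
  6), (6, 7), (7, 2)]), (7, [(1, 3), (3, 5), (5, 4), (4, 7)]), (3, [(1, 3), (3, 5), (5, 4), (4,
  2), (2, 6), (6, 7)]), (2, [(0, 1), (1, 2), (2, 4), (4, 6), (6, 7), (3, 5)]), (5, [(0, 1), (1,
  4), (2, 3), (3, 7)]), (8, [(1, 2), (2, 4), (4, 5), (5, 3), (3, 6), (6, 7)]), (5, [(0, 1), (1,
  4), (4, 3), (3, 7), (7, 2), (5, 6)]), (4, [(1, 4), (4, 2), (2, 3), (3, 6), (6, 5), (5, 7)]),
  (3, [(1, 3), (3, 6), (6, 4), (4, 7)]), (5, [(1, 4), (4, 2), (2, 3), (3, 6), (6, 5), (5, 7)]),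
  (3, [(0, 3), (3, 2), (2, 6), (6, 1), (4, 5), (5, 7)]), (4, [(0, 4), (4, 7), (7, 5), (2, 6)]),
  (7, [(0, 4), (4, 6), (6, 1), (2, 5), (5, 7), (7, 3)]), (8, [(0, 1), (1, 2), (2, 4), (4, 5), (5,
  7), (3, 6)]), (8, []), (6, [(0, 6), (6, 4), (4, 5), (1, 7), (7, 3), (3, 2)]), (6, [(0, 6), (6,
  1), (1, 7), (7, 2)]), (8, [(0, 1), (3, 4), (4, 6), (5, 7)]), (5, [(0, 1), (1, 2), (2, 3), (3,
  4), (4, 7), (7, 5)]), (5, [(3, 4), (4, 7), (7, 5), (5, 6)]), (5, [(2, 4), (3, 5), (5, 7), (7,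
  6)]), (6, [(2, 4), (3, 6)]), (6, [(0, 1), (1, 2), (2, 5), (5, 7), (7, 3), (4, 6)]), (5, [(2,
  4), (4, 6), (6, 5), (5, 7)]), (6, [(0, 1), (2, 3), (4, 6), (5, 7)]), (6, [(0, 1), (2, 6), (6,
  7), (7, 5), (5, 4), (4, 3)]), (6, [(1, 5), (5, 3), (2, 6), (6, 7)]), (8, [(1, 2), (2, 3)]), (6,
  [(0, 6), (6, 2), (2, 5), (5, 4), (4, 1), (3, 7)]), (6, [(0, 1), (1, 4), (4, 5), (2, 3)]), (6,
  [(0, 6), (6, 3), (3, 7), (2, 4)]), (6, [(0, 1), (1, 6), (6, 4), (4, 7), (7, 5), (2, 3)]), (6,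
  [(0, 6), (6, 4), (4, 3), (3, 7), (7, 1), (2, 5)]), (6, [(0, 1), (1, 4), (4, 3), (3, 2), (2, 6),
  (5, 7)]), (6, [(1, 6), (6, 3)]), (6, [(1, 5), (2, 6), (6, 3), (3, 7)]), (6, [(0, 1), (2, 6),
  (6, 7), (7, 3), (3, 4), (4, 5)]), (8, [(1, 2), (2, 3), (3, 4), (4, 5)]), (6, [(0, 1), (1, 4),
  (4, 3), (2, 5)]), (6, [(0, 1), (1, 4), (4, 7), (7, 3), (3, 6), (2, 5)]), (6, [(0, 6), (6, 3),
  (3, 5), (5, 7), (7, 4), (4, 2)]), (6, [(0, 1), (1, 4), (4, 5), (5, 2), (2, 6), (3, 7)]), (6,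
  [(1, 6), (6, 3), (3, 5), (4, 7)]), (6, [(0, 6), (6, 2), (2, 5), (5, 7), (7, 1), (3, 4)]), (6,
  [(0, 6), (6, 5), (5, 7), (7, 2)]), (6, [(1, 5), (5, 3), (3, 7), (7, 4), (4, 2), (2, 6)]), (5,
  [(1, 3), (3, 5), (5, 7), (7, 2), (2, 4), (4, 6)]), (5, [(0, 1), (2, 4), (4, 3), (3, 5), (5, 7),
  (7, 6)]), (6, [(0, 1), (1, 6), (6, 2), (2, 7), (7, 3), (4, 5)]), (6, [(1, 6), (2, 7)]), (5,
  [(1, 4), (4, 7), (7, 2), (2, 5), (5, 3), (3, 6)]), (5, [(1, 4), (4, 2), (2, 5), (5, 6)]), (5,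
  [(1, 4), (4, 5), (5, 6), (2, 7)]), (5, [(0, 1), (1, 4), (4, 3), (2, 7), (7, 5), (5, 6)]), (6,
  [(0, 1), (1, 6), (6, 2), (2, 3), (3, 4), (4, 5)]), (6, [(0, 6), (6, 7), (7, 2), (2, 4)])]

theorem checkGroup_true : mono.checkGroup 10 tbl = true := by decide +kernel

theorem checkClasses_true : checkClasses 10 tbl mono reps cls = true := by decide +kernel

theorem card_coprime : ¬ 5 ∣ mono.sel.length := by decide +kernel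

theorem counts_eq : (List.range reps.length).map (classCount mono cls) =
    ([1, 16, 42, 64, 72, -36, -192, 48, -15] : List ℤ) := by decide +kernel

theorem relation {M : Ideal AlgInt} [M.IsPrime] (hM : IsPModular 5 M) {V : Type*}
    [AddCommGroup V] [Module (resField M) V] [FiniteDimensional (resField M) V]
    {ρ : Representation (resField M) ↥(alternatingGroup (Fin 10)) V} (hρ : NoFix ρ) :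
    ∑ t ∈ Finset.range reps.length, ((([1, 16, 42, 64, 72, -36, -192, 48, -15] : List ℤ).getD t 0 : ℤ) : ℂ) *
      br 5 ρ.asAlgebraHom (mkA (reps.getD t [])) = 0 := by
  haveI := resField_charP hM
  rw [← sum_classCount hM ρ (by norm_num) htbl mono checkGroup_true card_coprime
    (fun v hv => kill hρ hv) checkClasses_true]
  refine Finset.sum_congr rfl fun t ht => ?_
  rw [← counts_eq, List.getD_eq_getElem?_getD, List.getElem?_map,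
    List.getElem?_range (Finset.mem_range.1 ht)]
  rfl

end Cfsg.Agent.AltCent.Five.Fact6
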