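/-
There is no module of the alternating group of degree ten in characteristic five in which no
nonsolvable subgroup fixes a nonzero vector.
-/
import Cfsg.Agent.Lib.AltCentraliser.Five.Rel0
import Cfsg.Agent.Lib.AltCentraliser.Five.Rel1
import Cfsg.Agent.Lib.AltCentraliser.Five.Rel2
import Cfsg.Agent.Lib.AltCentraliser.Five.Rel3
import Cfsg.Agent.Lib.AltCentraliser.Five.Rel4
import Cfsg.Agent.Lib.AltCentraliser.Five.Rel5
import Cfsg.Agent.Lib.AltCentraliser.Five.Rel6
import Cfsg.Agent.Lib.AltCentraliser.Five.Rel7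
import Cfsg.Agent.Lib.AltCentraliser.Five.Rel8
import Cfsg.Agent.Lib.AltCentraliser.Extend
import Cfsg.Agent.Lib.Char.GlaubermanMod

set_option autoImplicit false
set_option linter.style.haveILetI false

namespace Cfsg.Agent.AltCent.Five

open Cfsg Cfsg.Agent.Blocks Cfsg.Agent.BrauerChar Cfsg.Agent.BrauerPairs

theorem finrank_eq_zero [Fact (Nat.Prime 5)] {V : Type*} [AddCommGroup V] [Module (ZMod 5) V]
    [FiniteDimensional (ZMod 5) V] {ρ : Representation (ZMod 5) ↥(alternatingGroup (Fin 10)) V}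
    (hρ : NoFix ρ) : Module.finrank (ZMod 5) V = 0 := by
  obtain ⟨M, hM⟩ := Cfsg.Agent.GlaubermanMod.exists_isPModular 5
  haveI := IsPModular.isPrime hM
  haveI := resField_charP hM
  obtain ⟨σ, hσ⟩ := exists_extend hρ (resField M)
  have r0 := Fact0.relation hM hσ
  have r1 := Fact1.relation hM hσ
  have r2 := Fact2.relation hM hσ
  have r3 := Fact3.relation hM hσ
  have r4 := Fact4.relation hM hσ
  have r5 := Fact5.relation hM hσ
  have r6 := Fact6.relation hM hσ
  have r7 := Fact7.relation hM hσ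
  have r8 := Fact8.relation hM hσ
  simp only [reps, List.length_cons, List.length_nil, Nat.reduceAdd, Finset.sum_range_succ,
    Finset.sum_range_zero, List.getD_cons_zero, List.getD_cons_succ, zero_add] at r0 r1 r2 r3 r4 r5 r6 r7 r8
  have h1 : mkA ([] : List (Fin 10 × Fin 10)) = 1 := Subtype.ext (by simp [mkA, okSw, prodSw])
  rw [h1, br_one (by norm_num)] at r0 r1 r2 r3 r4 r5 r6 r7 r8
  have hfin : Module.finrank (resField M) (Fin (Module.finrank (ZMod 5) V) → resField M) =
      Module.finrank (ZMod 5) V := Module.finrank_fin_fun _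
  have key : ((Module.finrank (resField M) (Fin (Module.finrank (ZMod 5) V) → resField M) : ℕ)
      : ℂ) = 0 := by
    linear_combination (1/144 : ℂ) * r0 + (1/72 : ℂ) * r1 + (11/9 : ℂ) * r2 + (-155/72 : ℂ) * r3 + (65/36 : ℂ) * r4 +
      (-25/192 : ℂ) * r5 + (-5/48 : ℂ) * r6 + (5/64 : ℂ) * r7 + (25/96 : ℂ) * r8
  rw [hfin] at key
  exact Nat.cast_eq_zero.1 key

end Cfsg.Agent.AltCent.Five
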